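import Cfsg.Agent.S4197
import Cfsg.Agent.H845.KGV.NonabAux

/-!
# The configuration `Core`, non-abelian chief factor: the class number bound
-/

set_option autoImplicit false

namespace Cfsg.Agent.H845.KGV.Nonab

open Cfsg Cfsg.Agent.H960.KGV

variable {H : Type} [Group H] {A N C : Subgroup H} {p f a : ℕ} {F : Type} [Field F] {ψ : C →* GL (Fin a) F}

/-- the chief factor is a power `T ^ m` of a simple group, and the two-step subnormal subgroups have at most
`f (p ^ f - 1) (|Out T| k(T)) ^ m 2 ^ (m - 1)` classes -/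
theorem core_nonab_le (h : Core A N C p f a ψ) (hab : ¬ ∀ x ∈ N, ∀ y ∈ N, x * y * x⁻¹ * y⁻¹ ∈ A) : ∃ (T : Type) (_ : Group T) (_ : Finite T) (_ : IsSimpleGroup T) (m : ℕ) (π : N →* (Fin m → T)), ¬ IsMulCommutative T ∧ 1 ≤ m ∧ Function.Surjective π ∧ (∀ x : N, π x = 1 ↔ (x : H) ∈ A) ∧ ∀ R : Subgroup H, Two R → Nat.card (ConjClasses R) ≤ f * (p ^ f - 1) * ((Nat.card (Cfsg.Out T) * Nat.card (ConjClasses T)) ^ m * 2 ^ (m - 1)) := by
  refine NonabAux.core_nonab_le_of (fun m S => ?_) h hab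
  have h1 := Cfsg.Agent.S4197.result S
  rwa [Fintype.card_fin] at h1

end Cfsg.Agent.H845.KGV.Nonab
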