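import Cfsg.Agent.H539.SocBound

/-!
# Normal subgroups of powers of a simple group

`pow_normal`: a normal subgroup `Y` of `T ^ m` (`T` non-abelian simple) is a smaller power, it has trivial
center and is a direct factor.
`inter_pow`: if `X` and `M = T ^ m` normalize each other and `C_X(M) = 1`, then `X ∩ M` is a smaller power and
`C_X(X ∩ M) = 1`.
-/

set_option autoImplicit false

namespace Cfsg.Agent.H845.KGV.Pow

open Cfsg.Agent.H941 Cfsg.Agent.H540.ClassNum

variable {T : Type*} [Group T] [IsSimpleGroup T] {m : ℕ}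

theorem center_bot (hT : ¬ IsMulCommutative T) : Subgroup.center T = ⊥ := by
  rcases IsSimpleGroup.eq_bot_or_eq_top_of_normal (Subgroup.center T) inferInstance with h | h
  · exact h
  · exfalso
    apply hT
    exact ⟨⟨fun a b => (Subgroup.mem_center_iff.1 (h ▸ Subgroup.mem_top b : b ∈ Subgroup.center T) a)⟩⟩

/-- the support -/
def supp (Y : Subgroup (Fin m → T)) : Set (Fin m) := {i | ∃ y ∈ Y, y i ≠ 1}

omit [IsSimpleGroup T] in
theorem eq_one_of_notMem {Y : Subgroup (Fin m → T)} {y : Fin m → T} (hy : y ∈ Y) {i : Fin m}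
    (hi : i ∉ supp Y) : y i = 1 := by
  by_contra h
  exact hi ⟨y, hy, h⟩

theorem single_mem (hT : ¬ IsMulCommutative T) {Y : Subgroup (Fin m → T)} [Y.Normal] {i : Fin m}
    (hi : i ∈ supp Y) (t : T) : Pi.mulSingle i t ∈ Y := by
  obtain ⟨y, hy, h⟩ := hi
  have h1 := PiSimple.singleSub_eq_top hT hy h
  exact PiSimple.mem_singleSub.1 (h1 ▸ Subgroup.mem_top t)

theorem mem_iff (hT : ¬ IsMulCommutative T) {Y : Subgroup (Fin m → T)} [Y.Normal] {y : Fin m → T} :
    y ∈ Y ↔ ∀ i ∉ supp Y, y i = 1 := by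
  constructor
  · intro hy i hi
    exact eq_one_of_notMem hy hi
  · intro h
    refine PiSimple.mem_of_mulSingle fun i => ?_
    by_cases hi : i ∈ supp Y
    · exact single_mem hT hi _
    · rw [h i hi, Pi.mulSingle_one]
      exact Y.one_mem

open scoped Classical in
/-- `Y` is the power indexed by its support -/
noncomputable def toPow (hT : ¬ IsMulCommutative T) (Y : Subgroup (Fin m → T)) [Y.Normal] :
    Y ≃* (supp Y → T) where
  toFun y i := (y : Fin m → T) i
  invFun f := ⟨fun i => if h : i ∈ supp Y then f ⟨i, h⟩ else 1, by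
    rw [mem_iff hT]
    intro i hi
    rw [dif_neg hi]⟩
  left_inv y := by
    apply Subtype.ext
    funext i
    by_cases hi : i ∈ supp Y
    · simp only [dif_pos hi]
    · simp only [dif_neg hi]
      exact (eq_one_of_notMem y.2 hi).symm
  right_inv f := by
    funext i
    simp only [dif_pos i.2]
  map_mul' x y := rfl

theorem exists_pow (hT : ¬ IsMulCommutative T) (Y : Subgroup (Fin m → T)) [Y.Normal] :
    ∃ m' ≤ m, Nonempty (Y ≃* (Fin m' → T)) := by
  classical
  refine ⟨Fintype.card (supp Y), ?_, ⟨?_⟩⟩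
  · exact (Fintype.card_subtype_le _).trans (Fintype.card_fin m).le
  · exact (toPow hT Y).trans
      (MulEquiv.arrowCongr (Fintype.equivFin (supp Y)) (MulEquiv.refl T))

theorem eq_one_of_comm (hT : ¬ IsMulCommutative T) {Y : Subgroup (Fin m → T)} [Y.Normal] {y : Fin m → T}
    (hy : y ∈ Y) (hc : ∀ z ∈ Y, y * z = z * y) : y = 1 := by
  funext i
  by_cases hi : i ∈ supp Y
  · have h1 : y i ∈ Subgroup.center T := by
      rw [Subgroup.mem_center_iff]
      intro t
      have h2 := congrFun (hc _ (single_mem hT hi t)) i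
      rw [Pi.mul_apply, Pi.mul_apply, Pi.mulSingle_eq_same] at h2
      exact h2.symm
    rw [center_bot hT] at h1
    exact Subgroup.mem_bot.1 h1
  · exact eq_one_of_notMem hy hi

theorem exists_mul (hT : ¬ IsMulCommutative T) {Y : Subgroup (Fin m → T)} [Y.Normal] (z : Fin m → T) :
    ∃ y ∈ Y, ∃ c : Fin m → T, (∀ u ∈ Y, c * u = u * c) ∧ z = y * c := by
  classical
  refine ⟨fun i => if i ∈ supp Y then z i else 1, ?_, fun i => if i ∈ supp Y then 1 else z i, ?_, ?_⟩
  · rw [mem_iff hT]
    intro i hi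
    exact if_neg hi
  · intro u hu
    funext i
    simp only [Pi.mul_apply]
    by_cases hi : i ∈ supp Y
    · rw [if_pos hi, one_mul, mul_one]
    · rw [if_neg hi, eq_one_of_notMem hu hi, one_mul, mul_one]
  · funext i
    simp only [Pi.mul_apply]
    by_cases hi : i ∈ supp Y
    · rw [if_pos hi, if_pos hi, mul_one]
    · rw [if_neg hi, if_neg hi, one_mul]

/-- the intersection with a power of a simple group -/
theorem inter_pow {L : Type*} [Group L] (hT : ¬ IsMulCommutative T) {X M : Subgroup L}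
    (e : M ≃* (Fin m → T)) (hMX : ∀ x ∈ X, ∀ n ∈ M, x * n * x⁻¹ ∈ M) (hXM : ∀ n ∈ M, ∀ x ∈ X, n * x * n⁻¹ ∈ X)
    (hc : ∀ x ∈ X, (∀ n ∈ M, x * n = n * x) → x = 1) :
    (∃ m' ≤ m, Nonempty ((X ⊓ M : Subgroup L) ≃* (Fin m' → T))) ∧
      ∀ x ∈ X, (∀ n ∈ X ⊓ M, x * n = n * x) → x = 1 := by
  -- the intersection as a subgroup of the power
  let Y : Subgroup (Fin m → T) := (X.subgroupOf M).map e.toMonoidHom
  have hn0 : (X.subgroupOf M).Normal := by
    constructor
    intro x hx n
    rw [Subgroup.mem_subgroupOf] at hx ⊢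
    exact hXM n n.2 x hx
  have hY : Y.Normal := Subgroup.Normal.map hn0 _ e.surjective
  have hmem : ∀ x : M, e x ∈ Y ↔ (x : L) ∈ X := by
    intro x
    constructor
    · rintro ⟨x', hx', h⟩
      have h1 : x' = x := e.injective h
      rw [← h1]
      exact hx'
    · intro hx
      exact ⟨x, hx, rfl⟩
  constructor
  · obtain ⟨m', hm', ⟨e'⟩⟩ := exists_pow hT Y
    refine ⟨m', hm', ⟨?_⟩⟩
    have e1 : (X.subgroupOf M) ≃* Y := (X.subgroupOf M).equivMapOfInjective e.toMonoidHom e.injective
    have e2 : ((X ⊓ M : Subgroup L).subgroupOf M) ≃* (X ⊓ M : Subgroup L) :=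
      Subgroup.subgroupOfEquivOfLe inf_le_right
    have e3 : (X ⊓ M : Subgroup L).subgroupOf M = X.subgroupOf M := Subgroup.inf_subgroupOf_right X M
    exact (e2.symm.trans (MulEquiv.subgroupCongr e3)).trans (e1.trans e')
  · intro x hx hxc
    apply hc x hx
    intro n hn
    obtain ⟨y, hy, c, hcc, hz⟩ := exists_mul (Y := Y) hT (e ⟨n, hn⟩)
    -- the two parts
    have h1 : (⟨n, hn⟩ : M) = e.symm y * e.symm c := by
      rw [← map_mul, ← hz, e.symm_apply_apply]
    have h2 : n = (e.symm y : M) * (e.symm c : M) := congrArg Subtype.val h1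
    have hyX : ((e.symm y : M) : L) ∈ X := by
      rw [← hmem, e.apply_symm_apply]
      exact hy
    have h3 : x * (e.symm y : M) = (e.symm y : M) * x := hxc _ ⟨hyX, (e.symm y).2⟩
    have h4 : x * (e.symm c : M) = (e.symm c : M) * x := by
      -- the commutator
      have hk : x * (e.symm c : M) * x⁻¹ ∈ M := hMX x hx _ (e.symm c).2
      have hkM : x * (e.symm c : M) * x⁻¹ * ((e.symm c : M) : L)⁻¹ ∈ M := mul_mem hk (inv_mem (e.symm c).2)
      have hkX : x * (e.symm c : M) * x⁻¹ * ((e.symm c : M) : L)⁻¹ ∈ X := by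
        have : x * (e.symm c : M) * x⁻¹ * ((e.symm c : M) : L)⁻¹ =
            x * ((e.symm c : M) * x⁻¹ * ((e.symm c : M) : L)⁻¹) := by group
        rw [this]
        exact mul_mem hx (hXM _ (e.symm c).2 _ (inv_mem hx))
      have hcomm : ∀ u : M, (u : L) ∈ X → ((e.symm c : M) : L) * u = u * (e.symm c : M) := by
        intro u hu
        have h5 := hcc (e u) ((hmem u).2 hu)
        have h6 := congrArg e.symm h5
        rw [map_mul, map_mul, e.symm_apply_apply] at h6
        exact congrArg Subtype.val h6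
      have hone : e ⟨_, hkM⟩ = 1 := by
        apply eq_one_of_comm hT ((hmem ⟨_, hkM⟩).2 hkX)
        intro z hz
        have hz1 : z = e (e.symm z) := (e.apply_symm_apply z).symm
        rw [hz1] at hz ⊢
        rw [← map_mul, ← map_mul]
        congr 1
        apply Subtype.ext
        have hzX : ((e.symm z : M) : L) ∈ X := (hmem _).1 hz
        -- `z` commutes with `x` and with `c`
        have hzx : Commute ((e.symm z : M) : L) x := (hxc _ ⟨hzX, (e.symm z).2⟩).symm
        have hzc : Commute ((e.symm z : M) : L) (e.symm c : M) := (hcomm _ hzX).symm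
        exact (((hzx.mul_right hzc).mul_right hzx.inv_right).mul_right hzc.inv_right).symm.eq
      have h7 : (⟨_, hkM⟩ : M) = 1 := by
        apply e.injective
        rw [hone, map_one]
      have h8 : x * (e.symm c : M) * x⁻¹ * ((e.symm c : M) : L)⁻¹ = 1 := congrArg Subtype.val h7
      rw [mul_inv_eq_one, mul_inv_eq_iff_eq_mul] at h8
      exact h8
    rw [h2, ← mul_assoc, h3, mul_assoc, h4, mul_assoc]

/-- the class number bound -/
theorem bound {L : Type*} [Group L] [Finite L]
    (hperm : ∀ (m : ℕ) (S : Subgroup (Equiv.Perm (Fin m))), Nat.card (ConjClasses S) ≤ 2 ^ (m - 1))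
    (hT : ¬ IsMulCommutative T) [Finite T] {X M : Subgroup L} (hMX' : M ≤ X)
    {m' : ℕ} (hm : m' ≤ m) (e : M ≃* (Fin m' → T)) (hMX : ∀ x ∈ X, ∀ n ∈ M, x * n * x⁻¹ ∈ M)
    (hc : ∀ x ∈ X, (∀ n ∈ M, x * n = n * x) → x = 1) :
    Nat.card (ConjClasses X) ≤
      (Nat.card (Cfsg.Out T) * Nat.card (ConjClasses T)) ^ m * 2 ^ (m - 1) := by
  have hn : (M.subgroupOf X).Normal := by
    constructor
    intro n hn x
    rw [Subgroup.mem_subgroupOf] at hn ⊢
    exact hMX x x.2 n hn
  have hC : Subgroup.centralizer ((M.subgroupOf X : Subgroup X) : Set X) = ⊥ := by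
    rw [eq_bot_iff]
    intro x hx
    rw [Subgroup.mem_centralizer_iff] at hx
    rw [Subgroup.mem_bot]
    apply Subtype.ext
    apply hc x x.2
    intro n hn
    have h1 := hx ⟨n, hMX' hn⟩ hn
    exact (congrArg Subtype.val h1).symm
  obtain ⟨π, h⟩ := Cfsg.Agent.H539.SocBound.card_conjClasses_le (M.subgroupOf X) hC hT
    ((Subgroup.subgroupOfEquivOfLe hMX').trans e)
  refine h.trans (Nat.mul_le_mul ?_ ?_)
  · apply Nat.pow_le_pow_right _ hm
    have h1 : 0 < Nat.card (Cfsg.Out T) := Nat.card_pos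
    have h2 : 0 < Nat.card (ConjClasses T) := card_conjClasses_pos
    exact Nat.mul_pos h1 h2
  · exact (hperm m' π.range).trans (Nat.pow_le_pow_right (by norm_num) (by omega))

end Cfsg.Agent.H845.KGV.Pow
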